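import Mathlib
import Groth.Prelude.Def_PerfAux
import Groth.Prelude.Def_PicGrp
import Groth.Agent.Lib.Helper3.FlatTen3
import Groth.Agent.Lib.Helper1.QcPullGen
import Groth.Agent.Lib.Helper1.TwistAmpleOpen
import Groth.Agent.Lib.Helper7.ConsMod.Basic

set_option linter.style.haveILetI false
set_option linter.unusedVariables false
set_option linter.unusedSectionVars false
set_option autoImplicit false
set_option backward.isDefEq.respectTransparency.types false
set_option synthInstance.maxHeartbeats 400000
set_option maxHeartbeats 1600000

universe u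

/-! helper7: base change invariance of the fibre Betti numbers and Euler characteristics (PerfAux.betti, PerfAux.eulerChar) for cartesian squares, via helper3 FlatTen (flat module coefficients) over residue field extensions. -/

open CategoryTheory CategoryTheory.Limits AlgebraicGeometry TensorProduct

namespace Groth.Agent.Helper7.Betti

/-- the fibre Betti numbers only depend on the isomorphism class of the module. -/
theorem betti_congr {X S : Scheme.{u}} (f : X ⟶ S) {F G : X.Modules} (e : F ≅ G) (s : S) (i : ℕ) :
    PerfAux.betti f F s i = PerfAux.betti f G s i := by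
  letI : (f.fiber s).Over (Spec (CommRingCat.of (S.residueField s))) :=
    ⟨f.fiberToSpecResidueField s⟩
  exact (Groth.Agent.Helper3.FlatTen.HHcongr (S.residueField s)
    ((Scheme.Modules.pullback (f.fiberι s)).mapIso e) i).finrank_eq

/-- the Euler characteristic of a fibre only depends on the isomorphism class of the module. -/
theorem eulerChar_congr {X S : Scheme.{u}} (f : X ⟶ S) {F G : X.Modules} (e : F ≅ G) (s : S) :
    PerfAux.eulerChar f F s = PerfAux.eulerChar f G s := by
  unfold PerfAux.eulerChar
  exact finsum_congr fun i => by rw [betti_congr f e s i]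

/-- tensoring with the pullback of the module attached to the ring itself does nothing. -/
theorem nonempty_tensorMod_pullback_tildeSelf_iso {Y' : Scheme.{u}} (R : Type u) [CommRing R]
    (p : Y' ⟶ Spec (CommRingCat.of R)) (G : Y'.Modules) :
    Nonempty (CohB1.tensorMod G ((Scheme.Modules.pullback p).obj
      (AlgebraicGeometry.tilde (R := CommRingCat.of R) (ModuleCat.of R R))) ≅ G) := by
  let i1 : (Scheme.Modules.pullback p).obj
      (AlgebraicGeometry.tilde (R := CommRingCat.of R) (ModuleCat.of R R)) ≅
      Coh.structureModule Y' :=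
    (Scheme.Modules.pullback p).mapIso (AlgebraicGeometry.tildeSelf (R := CommRingCat.of R)) ≪≫
      Groth.Agent.Helper1.QcPullGen.pullbackUnitIso p
  obtain ⟨i4⟩ := Groth.Agent.Helper1.TwistAmpleOpen.nonempty_tensorMod_unit_iso G
  exact ⟨PicGrp.tensorModIso (Iso.refl G) i1 ≪≫
    Groth.Agent.Helper3.FlatTen.tensorModComm G (Coh.structureModule Y') ≪≫ i4⟩

set_option backward.isDefEq.respectTransparency false in
/-- **base change invariance of the fibre Betti numbers**: for a cartesian square, the dimension of
the cohomology of the fibre over `s'` is that of the fibre over the image of `s'`. -/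
theorem betti_baseChange {X S X' S' : Scheme.{u}} (f : X ⟶ S) (g : S' ⟶ S) (g' : X' ⟶ X)
    (f' : X' ⟶ S') (h : IsPullback g' f' f g) [QuasiCompact f] [QuasiSeparated f]
    (F : X.Modules) [F.IsQuasicoherent] (s' : S') (i : ℕ) :
    PerfAux.betti f' ((Scheme.Modules.pullback g').obj F) s' i = PerfAux.betti f F (g s') i := by
  letI oY : (f.fiber (g s')).Over (Spec (CommRingCat.of (S.residueField (g s')))) :=
    ⟨f.fiberToSpecResidueField (g s')⟩
  letI oY' : (f'.fiber s').Over (Spec (CommRingCat.of (S'.residueField s'))) :=
    ⟨f'.fiberToSpecResidueField s'⟩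
  letI alg : Algebra (S.residueField (g s')) (S'.residueField s') :=
    (g.residueFieldMap s').hom.toAlgebra
  have hpb := isPullback_fiberToSpecResidueField_of_isPullback h s'
  obtain ⟨γ, hγ⟩ : ∃ γ : f'.fiber s' ⟶ f.fiber (g s'),
      γ = pullback.map f' (S'.fromSpecResidueField s') f (S.fromSpecResidueField (g s')) g'
        (Spec.map (g.residueFieldMap s')) g h.w.symm (by simp) := ⟨_, rfl⟩
  rw [← hγ] at hpb
  have he : γ ≫ f.fiberι (g s') = f'.fiberι s' ≫ g' := by
    rw [hγ]
    exact pullback.lift_fst _ _ _
  haveI : QuasiCompact (f.fiberToSpecResidueField (g s')) :=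
    inferInstanceAs (QuasiCompact (pullback.snd f (S.fromSpecResidueField (g s'))))
  haveI : QuasiSeparated (f.fiberToSpecResidueField (g s')) :=
    inferInstanceAs (QuasiSeparated (pullback.snd f (S.fromSpecResidueField (g s'))))
  haveI : CompactSpace ↥(f.fiber (g s')) :=
    QuasiCompact.compactSpace_of_compactSpace (f.fiberToSpecResidueField (g s'))
  haveI : QuasiSeparatedSpace ↥(f.fiber (g s')) :=
    quasiSeparatedSpace_of_quasiSeparated (f.fiberToSpecResidueField (g s'))
  haveI : ((Scheme.Modules.pullback (f.fiberι (g s'))).obj F).IsQuasicoherent :=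
    Groth.Agent.Lead.PB.isQuasicoherent_pullback _ _
  obtain ⟨e1⟩ := Groth.Agent.Helper3.FlatTen.main (S.residueField (g s')) (S'.residueField s')
    (S'.residueField s') γ hpb ((Scheme.Modules.pullback (f.fiberι (g s'))).obj F) i
  obtain ⟨i1⟩ := nonempty_tensorMod_pullback_tildeSelf_iso (S'.residueField s')
    (f'.fiberToSpecResidueField s')
    ((Scheme.Modules.pullback γ).obj ((Scheme.Modules.pullback (f.fiberι (g s'))).obj F))
  have e2 := Groth.Agent.Helper3.FlatTen.HHcongr (S'.residueField s')
    (i1 ≪≫ Groth.Agent.Helper7.ConsMod.pullbackSquareIso he F) i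
  have h1 := (e1.trans e2).finrank_eq
  rw [Module.finrank_baseChange] at h1
  exact h1.symm

/-- base change invariance of the Euler characteristic of the fibres. -/
theorem eulerChar_baseChange {X S X' S' : Scheme.{u}} (f : X ⟶ S) (g : S' ⟶ S) (g' : X' ⟶ X)
    (f' : X' ⟶ S') (h : IsPullback g' f' f g) [QuasiCompact f] [QuasiSeparated f]
    (F : X.Modules) [F.IsQuasicoherent] (s' : S') :
    PerfAux.eulerChar f' ((Scheme.Modules.pullback g').obj F) s' =
      PerfAux.eulerChar f F (g s') := by
  unfold PerfAux.eulerChar
  exact finsum_congr fun i => by rw [betti_baseChange f g g' f' h F s' i]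

end Groth.Agent.Helper7.Betti
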