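import Mathlib
import Groth.Prelude.Def_PerfAux
import Groth.Prelude.Def_ega3
import Groth.Agent.Lib.Helper4.FibRank1

set_option linter.style.haveILetI false
set_option linter.unusedVariables false
set_option linter.unusedSectionVars false
set_option autoImplicit false
set_option backward.isDefEq.respectTransparency.types false
set_option synthInstance.maxHeartbeats 400000
set_option maxHeartbeats 1600000

universe u

/-! helper7: upper semicontinuity of the fibre Betti numbers and local constancy of the fibre Euler characteristic over a Noetherian affine base, from helper4 Mumford-complex fibre rank identity (MData.fiberRank_add). -/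

open CategoryTheory CategoryTheory.Limits AlgebraicGeometry TensorProduct Topology
open Groth.Agent.Helper1.FlatCxL
open Groth.Agent.Lib.Helper4.ExchAlg2
open Groth.Agent.Lib.Helper4.MumBC2
open Groth.Agent.Lib.Helper4.SemiRank1
open Groth.Agent.Lib.Helper4.RedRank1
open Groth.Agent.Lib.Helper4.TruncAlg1

namespace Groth.Agent.Helper7.Betti

/-- the two frozen fibre ranks agree. -/
theorem betti_eq_fiberRank {X S : Scheme.{u}} (f : X ⟶ S) (F : X.Modules) (s : S) (i : ℕ) :
    PerfAux.betti f F s i = CohIII.fiberRank f F i s := rfl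

section Alg

variable {A : Type u} [CommRing A]

theorem fibreRank_Wq_congr (K : CochainComplex (ModuleCat.{u} A) ℤ) {o o' q q' : ℤ}
    (ho : o = o') (hq : q = q') (y : PrimeSpectrum A) :
    fibreRank (Wq K o q) y = fibreRank (Wq K o' q') y := by
  subst ho hq
  rfl

theorem fibreRank_of_subsingleton (Q : Type u) [AddCommGroup Q] [Module A Q] [Subsingleton Q]
    (y : PrimeSpectrum A) : fibreRank Q y = 0 := by
  unfold fibreRank
  haveI : Subsingleton (y.asIdeal.ResidueField ⊗[A] Q) := by
    have h0 : ∀ z : y.asIdeal.ResidueField ⊗[A] Q, z = 0 := by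
      intro z
      induction z using TensorProduct.induction_on with
      | zero => rfl
      | tmul a q => rw [Subsingleton.elim q 0, TensorProduct.tmul_zero]
      | add a b ha hb => rw [ha, hb, add_zero]
    exact ⟨fun a b => by rw [h0 a, h0 b]⟩
  exact Module.finrank_zero_of_subsingleton

end Alg

section Geo

variable {A : Type u} [CommRing A] [IsNoetherianRing A] {X : Scheme.{u}}
  [X.Over (Spec (CommRingCat.of A))] [IsProper (X ↘ Spec (CommRingCat.of A))]
  {F : X.Modules} (D : MData A X F)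

/-- the fibre rank of the cokernel of the differential into degree `p`. -/
noncomputable def V (p : ℕ) (y : PrimeSpectrum A) : ℕ :=
  fibreRank (Wq D.K ((p : ℤ) - 1) (p : ℤ)) y

/-- the rank of the term of degree `p + 1`. -/
noncomputable def r (p : ℕ) : ℕ := Module.finrank A (D.K.X ((p : ℤ) + 1))

theorem betti_add [F.IsQuasicoherent] (p : ℕ) (y : PrimeSpectrum A) :
    CohIII.fiberRank (X ↘ Spec (CommRingCat.of A)) F p y + r D p = V D p y + V D (p + 1) y := by
  haveI : ∀ j, Module.Free A (D.K.X j) := fun j => (D.hff j).2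
  have e := Groth.Agent.Lib.Helper4.FibRank1.MData.fiberRank_add D p y
  rw [Groth.Agent.Lib.Helper4.FibRank1.fibreRank_free (D.K.X ((p : ℤ) + 1)) y] at e
  have h2 : fibreRank (Wq D.K (p : ℤ) ((p : ℤ) + 1)) y = V D (p + 1) y :=
    fibreRank_Wq_congr D.K (by omega) (by omega) y
  have h1 : fibreRank (Wq D.K ((p : ℤ) - 1) (p : ℤ)) y = V D p y := rfl
  rw [h1, h2] at e
  exact e

theorem V_usc (p : ℕ) (y₀ : PrimeSpectrum A) : ∀ᶠ y in 𝓝 y₀, V D p y ≤ V D p y₀ := by
  haveI : ∀ j, Module.Finite A (D.K.X j) := fun j => (D.hff j).1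
  exact eventually_fibreRank_le (Wq D.K ((p : ℤ) - 1) (p : ℤ)) y₀

theorem V_eq_zero (p : ℕ) (hp : D.b < (p : ℤ)) (y : PrimeSpectrum A) : V D p y = 0 := by
  haveI : Subsingleton (D.K.X (p : ℤ)) := ModuleCat.subsingleton_of_isZero (D.hb _ hp)
  haveI : Subsingleton (Wq D.K ((p : ℤ) - 1) (p : ℤ)) :=
    (Submodule.Quotient.mk_surjective _).subsingleton
  exact fibreRank_of_subsingleton _ y

theorem r_eq_zero (p : ℕ) (hp : D.b < (p : ℤ) + 1) (y : PrimeSpectrum A) : r D p = 0 := by
  haveI : Nontrivial A := y.nontrivial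
  haveI : Subsingleton (D.K.X ((p : ℤ) + 1)) := ModuleCat.subsingleton_of_isZero (D.hb _ hp)
  exact Module.finrank_zero_of_subsingleton

theorem fibreRank_zero_eq (y : PrimeSpectrum A) :
    fibreRank (D.K.X 0) y =
      fibreRank (Wq D.K (-2) (-1)) y + fibreRank (Wq D.K (-1) 0) y := by
  haveI : ∀ j, Module.Finite A (D.K.X j) := fun j => (D.hff j).1
  obtain ⟨H, iH1, iH2, e, he, hrank⟩ := exists_equiv_finrank D.K y.asIdeal.ResidueField
    (-2) (-1) 0 (by norm_num) (by norm_num)
  have hz : IsZero ((CohIII.TFun D.K (-1)).obj (ModuleCat.of A y.asIdeal.ResidueField)) :=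
    D.hneg (-1) (by norm_num) _
  haveI : Subsingleton H := by
    haveI := ModuleCat.subsingleton_of_isZero hz
    exact e.symm.injective.subsingleton
  rw [Module.finrank_zero_of_subsingleton, zero_add] at hrank
  exact hrank

theorem isLocallyConstant_V_zero : IsLocallyConstant (V D 0) := by
  haveI : ∀ j, Module.Finite A (D.K.X j) := fun j => (D.hff j).1
  haveI : ∀ j, Module.Free A (D.K.X j) := fun j => (D.hff j).2
  have hρ : IsLocallyConstant (fun y : PrimeSpectrum A => fibreRank (D.K.X 0) y) := by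
    have : (fun y : PrimeSpectrum A => fibreRank (D.K.X 0) y) =
        fun _ => Module.finrank A (D.K.X 0) :=
      funext fun y => Groth.Agent.Lib.Helper4.FibRank1.fibreRank_free _ y
    rw [this]
    exact IsLocallyConstant.const _
  have key := isLocallyConstant_of_add
    (fun y : PrimeSpectrum A => fibreRank (Wq D.K (-2) (-1)) y)
    (fun y : PrimeSpectrum A => fibreRank (Wq D.K (-1) 0) y)
    (fun _ => 0) (fun y : PrimeSpectrum A => fibreRank (D.K.X 0) y)
    (fun x₀ => eventually_fibreRank_le _ x₀) (fun x₀ => eventually_fibreRank_le _ x₀)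
    (IsLocallyConstant.const _) hρ
    (fun y => by rw [zero_add]; exact fibreRank_zero_eq D y)
  have hV : V D 0 = fun y : PrimeSpectrum A => fibreRank (Wq D.K (-1) 0) y :=
    funext fun y => fibreRank_Wq_congr D.K (by norm_num) (by norm_num) y
  rw [hV]
  exact key.2

theorem eulerChar_eq [F.IsQuasicoherent] (y : PrimeSpectrum A) :
    PerfAux.eulerChar (X ↘ Spec (CommRingCat.of A)) F y =
      (V D 0 y : ℤ) - ∑ p ∈ Finset.range (D.b.toNat + 1), (-1 : ℤ) ^ p * (r D p : ℤ) := by
  have hNb : ∀ p : ℕ, D.b.toNat + 1 ≤ p → D.b < (p : ℤ) := by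
    intro p hp
    omega
  have hβ : ∀ p : ℕ, D.b.toNat + 1 ≤ p →
      CohIII.fiberRank (X ↘ Spec (CommRingCat.of A)) F p y = 0 := by
    intro p hp
    have e := betti_add D p y
    have h1 := hNb p hp
    rw [V_eq_zero D p h1 y, V_eq_zero D (p + 1) (by push_cast; omega) y,
      r_eq_zero D p (by omega) y] at e
    omega
  have hsum : PerfAux.eulerChar (X ↘ Spec (CommRingCat.of A)) F y =
      ∑ p ∈ Finset.range (D.b.toNat + 1), (-1 : ℤ) ^ p *
        (CohIII.fiberRank (X ↘ Spec (CommRingCat.of A)) F p y : ℤ) := by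
    unfold PerfAux.eulerChar
    apply finsum_eq_sum_of_support_subset
    intro p hp
    rw [Function.mem_support] at hp
    rw [Finset.coe_range, Set.mem_Iio]
    by_contra hlt
    apply hp
    rw [betti_eq_fiberRank, hβ p (not_lt.mp hlt)]
    simp
  have htel : ∀ M : ℕ, ∑ p ∈ Finset.range M, (-1 : ℤ) ^ p *
      (CohIII.fiberRank (X ↘ Spec (CommRingCat.of A)) F p y : ℤ) =
      (V D 0 y : ℤ) - (-1 : ℤ) ^ M * (V D M y : ℤ) -
        ∑ p ∈ Finset.range M, (-1 : ℤ) ^ p * (r D p : ℤ) := by
    intro M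
    induction M with
    | zero => simp
    | succ M ih =>
      rw [Finset.sum_range_succ, Finset.sum_range_succ, ih]
      have e := betti_add D M y
      have e' : (CohIII.fiberRank (X ↘ Spec (CommRingCat.of A)) F M y : ℤ) =
          (V D M y : ℤ) + (V D (M + 1) y : ℤ) - (r D M : ℤ) := by
        omega
      rw [e', pow_succ]
      ring
  rw [hsum, htel, V_eq_zero D (D.b.toNat + 1) (hNb _ le_rfl) y]
  simp

end Geo

/-- **upper semicontinuity of the fibre Betti numbers** over a Noetherian affine base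
(EGA III 7.7.5). -/
theorem isOpen_betti_lt_noeth (A : Type u) [CommRing A] [IsNoetherianRing A] {X : Scheme.{u}}
    (f : X ⟶ Spec (CommRingCat.of A)) [IsProper f] (F : X.Modules) (hF : Coh.IsCoh F)
    (hfl : FlatMod.IsFlatOver f F) (i n : ℕ) :
    IsOpen {s : ↥(Spec (CommRingCat.of A)) | PerfAux.betti f F s i < n} := by
  letI : X.Over (Spec (CommRingCat.of A)) := ⟨f⟩
  haveI : IsProper (X ↘ Spec (CommRingCat.of A)) := ‹IsProper f›
  haveI : F.IsQuasicoherent := hF.1
  obtain ⟨D⟩ := nonempty_mdata A X F hF hfl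
  rw [isOpen_iff_mem_nhds]
  intro y₀ hy₀
  have h1 : ∀ᶠ y in 𝓝 y₀, V D i y ≤ V D i y₀ := V_usc D i y₀
  have h2 : ∀ᶠ y in 𝓝 y₀, V D (i + 1) y ≤ V D (i + 1) y₀ := V_usc D (i + 1) y₀
  filter_upwards [h1, h2] with y a b
  have a' : V D i y ≤ V D i y₀ := a
  have b' : V D (i + 1) y ≤ V D (i + 1) y₀ := b
  have e := betti_add D i y
  have e₀ := betti_add D i y₀
  have hy₀' : CohIII.fiberRank (X ↘ Spec (CommRingCat.of A)) F i y₀ < n := hy₀
  show CohIII.fiberRank (X ↘ Spec (CommRingCat.of A)) F i y < n
  omega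

/-- **local constancy of the Euler characteristic of the fibres** over a Noetherian affine base
(EGA III 7.9.4). -/
theorem isLocallyConstant_eulerChar_noeth (A : Type u) [CommRing A] [IsNoetherianRing A]
    {X : Scheme.{u}} (f : X ⟶ Spec (CommRingCat.of A)) [IsProper f] (F : X.Modules)
    (hF : Coh.IsCoh F) (hfl : FlatMod.IsFlatOver f F) :
    IsLocallyConstant (fun s : ↥(Spec (CommRingCat.of A)) => PerfAux.eulerChar f F s) := by
  letI : X.Over (Spec (CommRingCat.of A)) := ⟨f⟩
  haveI : IsProper (X ↘ Spec (CommRingCat.of A)) := ‹IsProper f›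
  haveI : F.IsQuasicoherent := hF.1
  obtain ⟨D⟩ := nonempty_mdata A X F hF hfl
  have h0 : IsLocallyConstant (V D 0) := isLocallyConstant_V_zero D
  have hfun : (fun s : ↥(Spec (CommRingCat.of A)) => PerfAux.eulerChar f F s) =
      (fun m : ℕ => (m : ℤ) -
        ∑ p ∈ Finset.range (D.b.toNat + 1), (-1 : ℤ) ^ p * (r D p : ℤ)) ∘ V D 0 :=
    funext fun s => eulerChar_eq D s
  rw [hfun]
  exact h0.comp _

end Groth.Agent.Helper7.Betti
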