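import Mathlib
import Groth.Agent.Lib.Helper7.Betti.BC
import Groth.Agent.Lib.Helper7.Betti.Noeth
import Groth.Agent.Lib.Helper7.FlatNoeth.Main
import Groth.Agent.Lib.Helper7.AmpleCons.ProperModel
import Groth.Agent.Lib.Helper4.ChartSq1

set_option linter.style.haveILetI false
set_option linter.unusedVariables false
set_option linter.unusedSectionVars false
set_option autoImplicit false
set_option backward.isDefEq.respectTransparency.types false
set_option backward.isDefEq.respectTransparency false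
set_option synthInstance.maxHeartbeats 400000
set_option maxHeartbeats 1600000

universe u

/-! helper7: upper semicontinuity of fibre Betti numbers and local constancy of fibre Euler characteristics for proper finitely presented morphisms and finitely presented flat modules over arbitrary bases: Noetherian models (proper + flat) over finitely generated subrings, base change invariance, localization on the base. -/

open CategoryTheory CategoryTheory.Limits AlgebraicGeometry Opposite TopologicalSpace Topology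

namespace Groth.Agent.Helper7.Betti

open Groth.Agent.Helper7.LimBC Groth.Agent.Helper7.LimDesc Groth.Agent.Helper7
  Groth.Agent.Helper7.LimStage Groth.Agent.Helper7.FlatNoeth

section Model

variable (A : Type u) [CommRing A] {X : Scheme.{u}}
  (f : X ⟶ Spec (CommRingCat.of A)) [LocallyOfFinitePresentation f] [QuasiCompact f]
  [QuasiSeparated f] (F : X.Modules) [F.IsQuasicoherent] (hF : CohB1.IsFP F)

include hF in
/-- flatness descends to a model of finite presentation over a finitely generated subring. -/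
theorem exists_model_flat_fp (hfl : FlatMod.IsFlatOver f F) :
    ∃ (j : (FGSub.Idx A)ᵒᵖ) (X₀ : Scheme.{u}) (f₀ : X₀ ⟶ (FGSub.specDiag A).obj j)
      (F₀ : X₀.Modules) (q : X ⟶ X₀), LocallyOfFinitePresentation f₀ ∧ QuasiCompact f₀ ∧
      QuasiSeparated f₀ ∧ CohB1.IsFP F₀ ∧
      IsPullback q f f₀ ((FGSub.specCone A).π.app j) ∧
      Nonempty ((Scheme.Modules.pullback q).obj F₀ ≅ F) ∧ FlatMod.IsFlatOver f₀ F₀ := by
  obtain ⟨j, X₀, u₀, q, F₀, hlfp, hqc, hqs, hpb, hF₀q, hF₀fp, ⟨e⟩⟩ := exists_fg_model_mod A f F hF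
  haveI := hlfp
  haveI := hqc
  haveI := hqs
  haveI := hF₀q
  have hc := (FGSub.isLimit_specCone A).some
  haveI : ∀ {a b : Over j} (φ : a ⟶ b),
      IsAffineHom ((Over.forget j ⋙ FGSub.specDiag A).map φ) := fun φ => by
    show IsAffineHom ((FGSub.specDiag A).map φ.left)
    infer_instance
  haveI : ∀ k : Over j, IsAffineHom ((FGSub.specDiag A).map k.hom) := fun k => inferInstance
  haveI : CompactSpace ↥X₀ := QuasiCompact.compactSpace_of_compactSpace u₀
  have hcE : IsLimit ((FGSub.specCone A).whisker (Over.forget j)) :=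
    (Functor.Initial.isLimitWhiskerEquiv (Over.forget j) (FGSub.specCone A)).symm hc
  have H : ∀ x : X, FlatMod.IsFlatOverAt f ((Scheme.Modules.pullback q).obj F₀) x := fun x =>
    Groth.Agent.Lib.Helper4.ChartSq1.isFlatOverAt_of_iso f e.symm x (hfl x)
  obtain ⟨k₂, hk₂⟩ := Groth.Agent.Lib.Helper4.LimTRegD.exists_stage_flat
    (Over.forget j ⋙ FGSub.specDiag A) ((FGSub.specCone A).whisker (Over.forget j)) hcE
    (fun k => (FGSub.specDiag A).map k.hom)
    (fun {a b} φ => by
      show (FGSub.specDiag A).map φ.left ≫ (FGSub.specDiag A).map b.hom =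
        (FGSub.specDiag A).map a.hom
      rw [← (FGSub.specDiag A).map_comp, Over.w])
    ((FGSub.specCone A).π.app j) (fun k => (FGSub.specCone A).w k.hom) u₀ q f hpb F₀ hF₀fp H
  have hpbk := IsPullback.of_hasPullback u₀ ((FGSub.specDiag A).map k₂.hom)
  have hflat := hk₂ k₂ (𝟙 k₂) _ _ _ hpbk
  have hw : q ≫ u₀ = (f ≫ (FGSub.specCone A).π.app k₂.left) ≫ (FGSub.specDiag A).map k₂.hom := by
    rw [hpb.w, Category.assoc, (FGSub.specCone A).w]
  have hq' : IsPullback (pullback.lift q (f ≫ (FGSub.specCone A).π.app k₂.left) hw) f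
      (pullback.snd u₀ ((FGSub.specDiag A).map k₂.hom)) ((FGSub.specCone A).π.app k₂.left) := by
    refine IsPullback.of_right (h₁₂ := pullback.fst u₀ ((FGSub.specDiag A).map k₂.hom))
      (h₂₂ := (FGSub.specDiag A).map k₂.hom) (v₁₃ := u₀) ?_ (pullback.lift_snd _ _ _) hpbk
    rw [pullback.lift_fst, (FGSub.specCone A).w]
    exact hpb
  exact ⟨k₂.left, pullback u₀ ((FGSub.specDiag A).map k₂.hom), pullback.snd _ _,
    (Scheme.Modules.pullback (pullback.fst u₀ ((FGSub.specDiag A).map k₂.hom))).obj F₀,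
    pullback.lift q (f ≫ (FGSub.specCone A).π.app k₂.left) hw, inferInstance, inferInstance,
    inferInstance, Groth.Agent.Lead.LimZ.isFP_pullback _ F₀ hF₀fp, hq',
    ⟨(ConsMod.pullbackFacIso (pullback.lift_fst _ _ _) F₀).symm ≪≫ e⟩, hflat⟩

end Model

/-- **Noetherian models of proper flat families**: a proper morphism of finite presentation to an
affine scheme with a finitely presented module flat over the base comes by base change from such
data over a finitely generated subring, with a proper morphism and a flat coherent module. -/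
theorem exists_model_proper_flat (A : Type u) [CommRing A] {X : Scheme.{u}}
    (f : X ⟶ Spec (CommRingCat.of A)) [IsProper f] [LocallyOfFinitePresentation f]
    (F : X.Modules) [F.IsQuasicoherent] (hF : CohB1.IsFP F) (hfl : FlatMod.IsFlatOver f F) :
    ∃ (j : (FGSub.Idx A)ᵒᵖ) (X₀ : Scheme.{u}) (f₀ : X₀ ⟶ (FGSub.specDiag A).obj j)
      (F₀ : X₀.Modules) (q : X ⟶ X₀), IsProper f₀ ∧ Coh.IsCoh F₀ ∧ FlatMod.IsFlatOver f₀ F₀ ∧
      IsPullback q f f₀ ((FGSub.specCone A).π.app j) ∧
      Nonempty ((Scheme.Modules.pullback q).obj F₀ ≅ F) := by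
  obtain ⟨j, X₀, u₀, F₀, q, hlfp, hqc, hqs, hF₀, hpb, ⟨e⟩, hflat⟩ :=
    exists_model_flat_fp A f F hF hfl
  haveI := hlfp
  haveI := hqc
  haveI := hqs
  haveI : F₀.IsQuasicoherent := (ConsMod.isCoh_of_isFP F₀ hF₀).1
  have hc := (FGSub.isLimit_specCone A).some
  have hY : IsPullback ((FGSub.specCone A).π.app j) (𝟙 (FGSub.specCone A).pt)
      (𝟙 ((FGSub.specDiag A).obj j)) ((FGSub.specCone A).π.app j) :=
    IsPullback.id_vert ((FGSub.specCone A).π.app j)
  have hprop : IsProper (bcHom u₀ (𝟙 ((FGSub.specDiag A).obj j)) ((FGSub.specCone A).π.app j)) :=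
    bcHom_of_isPullback u₀ (𝟙 ((FGSub.specDiag A).obj j)) @IsProper _ hY hpb inferInstance
  haveI : CompactSpace ↥((FGSub.specDiag A).obj j) := by
    show CompactSpace ↥(Spec (CommRingCat.of ↥j.unop.1))
    infer_instance
  obtain ⟨k, χ, hk⟩ := ProperDesc.exists_stage_isProper (FGSub.specDiag A) (FGSub.specCone A)
    hc u₀ (𝟙 ((FGSub.specDiag A).obj j)) (fun k ψ => by
      haveI := AmpleCons.isNoetherian_specDiag_obj A k
      exact AmpleCons.isNoetherian_of_finiteType
        (pullback.snd (𝟙 ((FGSub.specDiag A).obj j)) ((FGSub.specDiag A).map ψ))) hprop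
  have hk' : IsProper (pullback.snd (u₀ ≫ 𝟙 ((FGSub.specDiag A).obj j))
      ((FGSub.specDiag A).map χ)) := by
    rw [← bcHom_snd u₀ (𝟙 ((FGSub.specDiag A).obj j)) ((FGSub.specDiag A).map χ)]
    exact (MorphismProperty.cancel_right_of_respectsIso @IsProper _ _).mpr hk
  have key : ∀ (t : X₀ ⟶ (FGSub.specDiag A).obj j), t = u₀ →
      IsProper (pullback.snd t ((FGSub.specDiag A).map χ)) →
      IsProper (pullback.snd u₀ ((FGSub.specDiag A).map χ)) := by
    rintro t rfl h
    exact h
  have hk'' := key _ (Category.comp_id u₀) hk'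
  have hpbk := IsPullback.of_hasPullback u₀ ((FGSub.specDiag A).map χ)
  have hw : q ≫ u₀ = (f ≫ (FGSub.specCone A).π.app k) ≫ (FGSub.specDiag A).map χ := by
    rw [hpb.w, Category.assoc, (FGSub.specCone A).w]
  have hq' : IsPullback (pullback.lift q (f ≫ (FGSub.specCone A).π.app k) hw) f
      (pullback.snd u₀ ((FGSub.specDiag A).map χ)) ((FGSub.specCone A).π.app k) := by
    refine IsPullback.of_right (h₁₂ := pullback.fst u₀ ((FGSub.specDiag A).map χ))
      (h₂₂ := (FGSub.specDiag A).map χ) (v₁₃ := u₀) ?_ (pullback.lift_snd _ _ _) hpbk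
    rw [pullback.lift_fst, (FGSub.specCone A).w]
    exact hpb
  refine ⟨k, pullback u₀ ((FGSub.specDiag A).map χ), pullback.snd _ _,
    (Scheme.Modules.pullback (pullback.fst u₀ ((FGSub.specDiag A).map χ))).obj F₀,
    pullback.lift q (f ≫ (FGSub.specCone A).π.app k) hw, hk'',
    ConsMod.isCoh_of_isFP _ (Groth.Agent.Lead.LimZ.isFP_pullback _ F₀ hF₀), ?_, hq',
    ⟨(ConsMod.pullbackFacIso (pullback.lift_fst _ _ _) F₀).symm ≪≫ e⟩⟩
  intro z
  exact Groth.Agent.Lead.FB.flat_baseChange hpbk F₀ z (hflat _)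

/-- upper semicontinuity of the fibre Betti numbers over an affine base. -/
theorem isOpen_betti_lt_affine (A : Type u) [CommRing A] {X : Scheme.{u}}
    (f : X ⟶ Spec (CommRingCat.of A)) [IsProper f] [LocallyOfFinitePresentation f]
    (F : X.Modules) (hF : CohB1.IsFP F) (hfl : FlatMod.IsFlatOver f F) (i n : ℕ) :
    IsOpen {s : ↥(Spec (CommRingCat.of A)) | PerfAux.betti f F s i < n} := by
  haveI : F.IsQuasicoherent := (ConsMod.isCoh_of_isFP F hF).1
  obtain ⟨j, X₀, f₀, F₀, q, hprop, hcoh, hflat, hpb, ⟨e⟩⟩ := exists_model_proper_flat A f F hF hfl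
  haveI := hprop
  haveI : F₀.IsQuasicoherent := hcoh.1
  haveI : Algebra.FiniteType ℤ ↥j.unop.1 := (Subalgebra.fg_iff_finiteType _).mp j.unop.2
  haveI : IsNoetherianRing ↥j.unop.1 := Algebra.FiniteType.isNoetherianRing ℤ _
  have hopen := isOpen_betti_lt_noeth (↥j.unop.1) f₀ F₀ hcoh hflat i n
  have hset : {s : ↥(Spec (CommRingCat.of A)) | PerfAux.betti f F s i < n} =
      ((FGSub.specCone A).π.app j) ⁻¹' {y | PerfAux.betti f₀ F₀ y i < n} := by
    ext s
    show PerfAux.betti f F s i < n ↔ PerfAux.betti f₀ F₀ ((FGSub.specCone A).π.app j s) i < n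
    rw [← betti_congr f e s i, betti_baseChange f₀ _ q f hpb F₀ s i]
    exact Iff.rfl
  rw [hset]
  exact hopen.preimage ((FGSub.specCone A).π.app j).continuous

/-- local constancy of the Euler characteristic of the fibres over an affine base. -/
theorem isLocallyConstant_eulerChar_affine (A : Type u) [CommRing A] {X : Scheme.{u}}
    (f : X ⟶ Spec (CommRingCat.of A)) [IsProper f] [LocallyOfFinitePresentation f]
    (F : X.Modules) (hF : CohB1.IsFP F) (hfl : FlatMod.IsFlatOver f F) :
    IsLocallyConstant (fun s : ↥(Spec (CommRingCat.of A)) => PerfAux.eulerChar f F s) := by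
  haveI : F.IsQuasicoherent := (ConsMod.isCoh_of_isFP F hF).1
  obtain ⟨j, X₀, f₀, F₀, q, hprop, hcoh, hflat, hpb, ⟨e⟩⟩ := exists_model_proper_flat A f F hF hfl
  haveI := hprop
  haveI : F₀.IsQuasicoherent := hcoh.1
  haveI : Algebra.FiniteType ℤ ↥j.unop.1 := (Subalgebra.fg_iff_finiteType _).mp j.unop.2
  haveI : IsNoetherianRing ↥j.unop.1 := Algebra.FiniteType.isNoetherianRing ℤ _
  have hlc := isLocallyConstant_eulerChar_noeth (↥j.unop.1) f₀ F₀ hcoh hflat
  have hfun : (fun s : ↥(Spec (CommRingCat.of A)) => PerfAux.eulerChar f F s) =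
      (fun y => PerfAux.eulerChar f₀ F₀ y) ∘ ((FGSub.specCone A).π.app j) := by
    funext s
    show PerfAux.eulerChar f F s = PerfAux.eulerChar f₀ F₀ ((FGSub.specCone A).π.app j s)
    rw [← eulerChar_congr f e s, eulerChar_baseChange f₀ _ q f hpb F₀ s]
    exact rfl
  rw [hfun]
  exact hlc.comp_continuous ((FGSub.specCone A).π.app j).continuous

section Global

variable {X S : Scheme.{u}} (f : X ⟶ S) [IsProper f] [LocallyOfFinitePresentation f]
  (F : X.Modules) (hF : CohB1.IsFP F) (hflat : FlatMod.IsFlatOver f F)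

include hF hflat in
/-- **upper semicontinuity of the fibre Betti numbers** of a finitely presented module flat over
the base, for a proper morphism of finite presentation. -/
theorem isOpen_betti_lt (i n : ℕ) : IsOpen {s : S | PerfAux.betti f F s i < n} := by
  haveI : F.IsQuasicoherent := (ConsMod.isCoh_of_isFP F hF).1
  rw [isOpen_iff_forall_mem_open]
  intro s hs
  obtain ⟨_, ⟨V, hV, rfl⟩, hsV, -⟩ :=
    S.isBasis_affineOpens.exists_subset_of_mem_open (Set.mem_univ s) isOpen_univ
  have hsq := Groth.Agent.Lib.Helper4.ChartSq1.isPullback_chart f hV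
  haveI : IsProper (Groth.Agent.Helper1.RpushLoc.strMap f hV) :=
    MorphismProperty.of_isPullback (P := @IsProper) hsq inferInstance
  haveI : LocallyOfFinitePresentation (Groth.Agent.Helper1.RpushLoc.strMap f hV) :=
    MorphismProperty.of_isPullback (P := @LocallyOfFinitePresentation) hsq inferInstance
  have hF' : CohB1.IsFP ((Scheme.Modules.pullback (f ⁻¹ᵁ V).ι).obj F) :=
    Groth.Agent.Lead.LimZ.isFP_pullback _ F hF
  have hfl' : FlatMod.IsFlatOver (Groth.Agent.Helper1.RpushLoc.strMap f hV)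
      ((Scheme.Modules.pullback (f ⁻¹ᵁ V).ι).obj F) := fun z =>
    Groth.Agent.Lead.FB.flat_baseChange hsq F z (hflat _)
  have hopen := isOpen_betti_lt_affine Γ(S, V) (Groth.Agent.Helper1.RpushLoc.strMap f hV)
    ((Scheme.Modules.pullback (f ⁻¹ᵁ V).ι).obj F) hF' hfl' i n
  have hpre : ∀ t, PerfAux.betti (Groth.Agent.Helper1.RpushLoc.strMap f hV)
      ((Scheme.Modules.pullback (f ⁻¹ᵁ V).ι).obj F) t i =
      PerfAux.betti f F (hV.fromSpec t) i := fun t =>
    betti_baseChange f hV.fromSpec (f ⁻¹ᵁ V).ι _ hsq F t i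
  refine ⟨hV.fromSpec '' {t | PerfAux.betti (Groth.Agent.Helper1.RpushLoc.strMap f hV)
      ((Scheme.Modules.pullback (f ⁻¹ᵁ V).ι).obj F) t i < n}, ?_, ?_, ?_⟩
  · rintro _ ⟨t, ht, rfl⟩
    show PerfAux.betti f F (hV.fromSpec t) i < n
    rw [← hpre t]
    exact ht
  · exact hV.fromSpec.isOpenEmbedding.isOpenMap _ hopen
  · have hr : s ∈ Set.range hV.fromSpec := by
      rw [hV.range_fromSpec]
      exact hsV
    obtain ⟨t, rfl⟩ := hr
    refine ⟨t, ?_, rfl⟩
    show PerfAux.betti _ _ t i < n
    rw [hpre t]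
    exact hs

include hF hflat in
/-- **local constancy of the Euler characteristic of the fibres** of a finitely presented module
flat over the base, for a proper morphism of finite presentation. -/
theorem isLocallyConstant_eulerChar :
    IsLocallyConstant (fun s : S => PerfAux.eulerChar f F s) := by
  haveI : F.IsQuasicoherent := (ConsMod.isCoh_of_isFP F hF).1
  rw [IsLocallyConstant.iff_exists_open]
  intro s
  obtain ⟨_, ⟨V, hV, rfl⟩, hsV, -⟩ :=
    S.isBasis_affineOpens.exists_subset_of_mem_open (Set.mem_univ s) isOpen_univ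
  have hsq := Groth.Agent.Lib.Helper4.ChartSq1.isPullback_chart f hV
  haveI : IsProper (Groth.Agent.Helper1.RpushLoc.strMap f hV) :=
    MorphismProperty.of_isPullback (P := @IsProper) hsq inferInstance
  haveI : LocallyOfFinitePresentation (Groth.Agent.Helper1.RpushLoc.strMap f hV) :=
    MorphismProperty.of_isPullback (P := @LocallyOfFinitePresentation) hsq inferInstance
  have hF' : CohB1.IsFP ((Scheme.Modules.pullback (f ⁻¹ᵁ V).ι).obj F) :=
    Groth.Agent.Lead.LimZ.isFP_pullback _ F hF
  have hfl' : FlatMod.IsFlatOver (Groth.Agent.Helper1.RpushLoc.strMap f hV)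
      ((Scheme.Modules.pullback (f ⁻¹ᵁ V).ι).obj F) := fun z =>
    Groth.Agent.Lead.FB.flat_baseChange hsq F z (hflat _)
  have hlc := isLocallyConstant_eulerChar_affine Γ(S, V)
    (Groth.Agent.Helper1.RpushLoc.strMap f hV)
    ((Scheme.Modules.pullback (f ⁻¹ᵁ V).ι).obj F) hF' hfl'
  have hpre : ∀ t, PerfAux.eulerChar (Groth.Agent.Helper1.RpushLoc.strMap f hV)
      ((Scheme.Modules.pullback (f ⁻¹ᵁ V).ι).obj F) t =
      PerfAux.eulerChar f F (hV.fromSpec t) := fun t =>
    eulerChar_baseChange f hV.fromSpec (f ⁻¹ᵁ V).ι _ hsq F t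
  have hr : s ∈ Set.range hV.fromSpec := by
    rw [hV.range_fromSpec]
    exact hsV
  obtain ⟨t, rfl⟩ := hr
  obtain ⟨U, hUo, htU, hU⟩ := (IsLocallyConstant.iff_exists_open _).1 hlc t
  refine ⟨hV.fromSpec '' U, hV.fromSpec.isOpenEmbedding.isOpenMap _ hUo, ⟨t, htU, rfl⟩, ?_⟩
  rintro _ ⟨t', ht', rfl⟩
  show PerfAux.eulerChar f F (hV.fromSpec t') = PerfAux.eulerChar f F (hV.fromSpec t)
  rw [← hpre t', ← hpre t]
  exact hU t' ht'

end Global

end Groth.Agent.Helper7.Betti
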